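import Cfsg.Agent.Lib.Helper60.Cert.Syl

/-!
A variant of the Sylow certificates in which the witness in the normal closure of a central
element `z` is a product of three conjugates of `z`.
-/

set_option autoImplicit false

namespace Cfsg.Agent.Lib.Helper60.Ru

open Cfsg.Agent.Lib.Helper60.Cert

/-- an enumerated `p`-subgroup together with, for every element, either a generator with which
it does not commute or two conjugators such that the product of the element with its two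
conjugates has order divisible by `q` -/
structure SData3 where
  L : LData
  fl : ℕ → ℕ
  cw : ℕ → ℕ
  cw2 : ℕ → ℕ
  nW : ℕ
  W : ℕ → ℕ
  Wi : ℕ → ℕ
  q : ℕ
  e : ℕ

section

variable {M : Type*} [Monoid M] (μ : Model M)

/-- the product of an element and two conjugates of it -/
def certP3 (D : SData3) (j : ℕ) : ℕ :=
  μ.mulP (D.L.T j) (μ.mulP (μ.mulP (D.W (D.cw j)) (μ.mulP (D.L.T j) (D.Wi (D.cw j))))
    (μ.mulP (D.W (D.cw2 j)) (μ.mulP (D.L.T j) (D.Wi (D.cw2 j)))))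

def chkW3 (D : SData3) (c : ℕ) : Bool := Nat.beq (μ.mulP (D.W c) (D.Wi c)) μ.oneP

def chkFl3 (D : SData3) (j : ℕ) : Bool :=
  match D.fl j with
  | 0 => Nat.beq (D.L.T j) μ.oneP
  | 1 => Nat.blt (D.cw j) D.nW && Nat.blt (D.cw2 j) D.nW &&
      Nat.beq (μ.powP (certP3 μ D j) (Nat.mul D.q D.e)) μ.oneP &&
      μ.neq (μ.powP (certP3 μ D j) D.e) μ.oneP
  | l + 2 => Nat.blt l D.L.r &&
      μ.neq (μ.mulP (D.L.T j) (D.L.gen l)) (μ.mulP (D.L.gen l) (D.L.T j))

structure SOK3 (D : SData3) : Prop where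
  l : LOK μ D.L
  w : ∀ c < D.nW, chkW3 μ D c = true
  fl : ∀ j < D.L.N, chkFl3 μ D j = true

variable {μ}
variable {𝒢 : Type*} [Group 𝒢] {ψ : 𝒢 →* M}

theorem inv_val_of_chk {w : 𝒢} {a b : ℕ} (hwv : ψ w = μ.toM a) (h : μ.mulP a b = μ.oneP) :
    ψ w⁻¹ = μ.toM b := by
  have e1 : ψ w * μ.toM b = 1 := by rw [hwv, μ.mul_eq h, μ.toM_one]
  calc ψ w⁻¹ = ψ w⁻¹ * (ψ w * μ.toM b) := by rw [e1, mul_one]
    _ = μ.toM b := by rw [← mul_assoc, ← map_mul, inv_mul_cancel, map_one, one_mul]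

theorem syl_cert3 [Finite 𝒢] (hψ : Function.Injective ψ) (H : Subgroup 𝒢) {D : SData3}
    (ok : SOK3 μ D) (hgen : ∀ l < D.L.r, Real μ ψ H (D.L.gen l))
    (hW : ∀ c < D.nW, Real μ ψ H (D.W c)) (hq : D.q.Prime) (p e : ℕ) [Fact p.Prime]
    (hN : D.L.N = p ^ e) (hidx : ¬ p ∣ Nat.card H / D.L.N) :
    ∃ P : Subgroup H, IsPGroup p P ∧ ¬ p ∣ P.index ∧
      ∀ z ∈ P, z ≠ 1 → (∀ g ∈ P, g * z = z * g) →
        ∃ u ∈ Subgroup.normalClosure {z}, D.q ∣ orderOf u := by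
  have hle : genGrp μ ψ D.L.gen D.L.r ≤ H := genGrp_le hψ H hgen
  have hex : ∀ l < D.L.r, ∃ g, ψ g = μ.toM (D.L.gen l) := by
    intro l hl
    obtain ⟨g, _, hg⟩ := hgen l hl
    exact ⟨g, hg⟩
  have hcard : Nat.card ((genGrp μ ψ D.L.gen D.L.r).subgroupOf H) = D.L.N := by
    rw [← card_L ok.l hψ hex]
    exact Nat.card_congr (Subgroup.subgroupOfEquivOfLe hle).toEquiv
  refine ⟨(genGrp μ ψ D.L.gen D.L.r).subgroupOf H, IsPGroup.of_card (hcard.trans hN), ?_, ?_⟩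
  · intro hdiv
    have h2 : ((genGrp μ ψ D.L.gen D.L.r).subgroupOf H).index = Nat.card H / D.L.N := by
      have := ((genGrp μ ψ D.L.gen D.L.r).subgroupOf H).index_mul_card
      rw [hcard] at this
      rw [← this, Nat.mul_div_cancel _ ok.l.npos]
    rw [h2] at hdiv
    exact hidx hdiv
  · rintro z hz hz1 hzc
    have hzP : (z : 𝒢) ∈ genGrp μ ψ D.L.gen D.L.r := Subgroup.mem_subgroupOf.mp hz
    obtain ⟨j, hj, hjv⟩ := L_sub ok.l _ hzP
    have hfl := ok.fl j hj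
    unfold chkFl3 at hfl
    split at hfl
    · exfalso; apply hz1
      apply Subtype.ext; apply hψ
      rw [hjv, Nat.eq_of_beq_eq_true hfl, μ.toM_one, Subgroup.coe_one, map_one]
    · simp only [Bool.and_eq_true, Nat.blt_eq] at hfl
      obtain ⟨⟨⟨hc, hc2⟩, h1⟩, h2⟩ := hfl
      have h1 := Nat.eq_of_beq_eq_true h1
      obtain ⟨w, hwH, hwv⟩ := hW _ hc
      obtain ⟨v, hvH, hvv⟩ := hW _ hc2
      have hwi := inv_val_of_chk hwv (Nat.eq_of_beq_eq_true (ok.w _ hc))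
      have hvi := inv_val_of_chk hvv (Nat.eq_of_beq_eq_true (ok.w _ hc2))
      have huv : ψ ((z * (((⟨w, hwH⟩ : H) * z * (⟨w, hwH⟩ : H)⁻¹) *
          ((⟨v, hvH⟩ : H) * z * (⟨v, hvH⟩ : H)⁻¹)) : H) : 𝒢) = μ.toM (certP3 μ D j) := by
        change ψ ((z : 𝒢) * ((w * z * w⁻¹) * (v * z * v⁻¹))) = _
        rw [map_mul, map_mul, map_mul, map_mul, map_mul, map_mul, hjv, hwv, hwi, hvv, hvi, certP3,
          μ.toM_mul, μ.toM_mul, μ.toM_mul, μ.toM_mul, μ.toM_mul, μ.toM_mul]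
        simp only [mul_assoc]
      refine ⟨z * (((⟨w, hwH⟩ : H) * z * (⟨w, hwH⟩ : H)⁻¹) *
          ((⟨v, hvH⟩ : H) * z * (⟨v, hvH⟩ : H)⁻¹)), ?_, ?_⟩
      · apply Subgroup.mul_mem
        · exact Subgroup.subset_normalClosure (Set.mem_singleton _)
        · apply Subgroup.mul_mem
          · exact Subgroup.normalClosure_normal.conj_mem _
              (Subgroup.subset_normalClosure (Set.mem_singleton _)) _
          · exact Subgroup.normalClosure_normal.conj_mem _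
              (Subgroup.subset_normalClosure (Set.mem_singleton _)) _
      · rw [← Subgroup.orderOf_coe]
        exact prime_dvd_orderOf hψ hq huv h1 h2
    · rename_i l _
      exfalso
      simp only [Bool.and_eq_true, Nat.blt_eq] at hfl
      obtain ⟨hl, hne⟩ := hfl
      obtain ⟨g, hgH, hgv⟩ := hgen l hl
      have hgP : (⟨g, hgH⟩ : H) ∈ (genGrp μ ψ D.L.gen D.L.r).subgroupOf H :=
        Subgroup.mem_subgroupOf.mpr (Subgroup.subset_closure ⟨l, hl, hgv⟩)
      have hcomm := hzc ⟨g, hgH⟩ hgP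
      have h' := congrArg (fun t : H => ψ (t : 𝒢)) hcomm
      simp only [Subgroup.coe_mul, map_mul, hgv, hjv, ← μ.toM_mul] at h'
      exact μ.toM_ne hne h'.symm

end

end Cfsg.Agent.Lib.Helper60.Ru
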